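import Mathlib.LinearAlgebra.Eigenspace.Triangularizable
import Mathlib.LinearAlgebra.Dual.Lemmas
import Mathlib.GroupTheory.Solvable
import Mathlib.GroupTheory.PGroup
import Mathlib.GroupTheory.Nilpotent
import Mathlib.FieldTheory.IsAlgClosed.Basic
import Mathlib.Algebra.CharP.Lemmas
import Mathlib.RingTheory.IntegralDomain
import Mathlib.LinearAlgebra.Projection

/-!
# The derived length of linear `p`-groups

A `p`-group acting linearly in dimension `n < 2 ^ (k + 1)` over an algebraically closed field has
its `(k+1)`-st derived subgroup acting trivially.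
-/

set_option autoImplicit false

namespace Cfsg.Agent.DerivedLength

open Subgroup
open scoped commutatorElement

universe u v w

variable {F : Type v} [Field F] {P : Type u} [Group P]
  {V : Type w} [AddCommGroup V] [Module F V]

/-- A subspace invariant under all `ρ g`. -/
def Invariant (ρ : P →* Module.End F V) (W : Submodule F V) : Prop := ∀ g : P, ∀ x ∈ W, ρ g x ∈ W

/-- The action on an invariant subspace. -/
def subAct (ρ : P →* Module.End F V) {W : Submodule F V} (hW : Invariant ρ W) :
    P →* Module.End F W where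
  toFun g := (ρ g).restrict (hW g)
  map_one' := LinearMap.ext fun x => Subtype.ext (by simp)
  map_mul' a b := LinearMap.ext fun x => Subtype.ext (by simp)

/-- The action on the quotient by an invariant subspace. -/
def quotAct (ρ : P →* Module.End F V) {W : Submodule F V} (hW : Invariant ρ W) :
    P →* Module.End F (V ⧸ W) where
  toFun g := W.mapQ W (ρ g) (hW g)
  map_one' := Submodule.linearMap_qext _ (LinearMap.ext fun x => by simp)
  map_mul' a b := Submodule.linearMap_qext _ (LinearMap.ext fun x => by simp)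

theorem apply_inv_apply (ρ : P →* Module.End F V) (g : P) (x : V) : ρ g⁻¹ (ρ g x) = x := by
  rw [← Module.End.mul_apply, ← map_mul, inv_mul_cancel, map_one, Module.End.one_apply]

/-- If all `ρ g` commute, the commutator subgroup acts trivially. -/
theorem eq_one_of_mem_commutator (ρ : P →* Module.End F V) (h : ∀ a b : P, ρ a * ρ b = ρ b * ρ a)
    {g : P} (hg : g ∈ _root_.commutator P) : ρ g = 1 := by
  have hle : _root_.commutator P ≤ ρ.toHomUnits.ker := by
    rw [_root_.commutator_def, commutator_le]
    intro a _ b _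
    rw [MonoidHom.mem_ker, map_commutatorElement, commutatorElement_eq_one_iff_mul_comm]
    exact Units.ext (h a b)
  have := congrArg Units.val (MonoidHom.mem_ker.1 (hle hg))
  simpa using this

theorem derivedSeries_succ_le_map {M : Subgroup P} (hM : _root_.commutator P ≤ M) :
    ∀ i : ℕ, derivedSeries P (i + 1) ≤ (derivedSeries M i).map M.subtype
  | 0 => by rw [derivedSeries_one, derivedSeries_zero, ← MonoidHom.range_eq_map, range_subtype]; exact hM
  | i + 1 => by
      rw [derivedSeries_succ P (i + 1), derivedSeries_succ M i, map_commutator]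
      exact commutator_mono (derivedSeries_succ_le_map hM i) (derivedSeries_succ_le_map hM i)

variable [IsAlgClosed F] [FiniteDimensional F V]

/-- Schur's lemma. -/
theorem exists_scalar (ρ : P →* Module.End F V) [Nontrivial V]
    (hirr : ∀ W : Submodule F V, Invariant ρ W → W = ⊥ ∨ W = ⊤) (T : Module.End F V)
    (hT : ∀ g, T * ρ g = ρ g * T) : ∃ μ : F, T = μ • 1 := by
  obtain ⟨μ, hμ⟩ := Module.End.exists_eigenvalue T
  refine ⟨μ, ?_⟩
  have hinv : Invariant ρ (T.eigenspace μ) := by
    intro g x hx
    rw [Module.End.mem_eigenspace_iff] at hx ⊢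
    calc T (ρ g x) = ρ g (T x) := LinearMap.congr_fun (hT g) x
      _ = μ • ρ g x := by rw [hx, map_smul]
  have htop := (hirr _ hinv).resolve_left hμ
  refine LinearMap.ext fun x => ?_
  have : x ∈ T.eigenspace μ := by rw [htop]; trivial
  rw [Module.End.mem_eigenspace_iff] at this
  simpa using this

theorem finrank_le_one_of_commute (ρ : P →* Module.End F V) [Nontrivial V]
    (hirr : ∀ W : Submodule F V, Invariant ρ W → W = ⊥ ∨ W = ⊤)
    (h : ∀ a b : P, ρ a * ρ b = ρ b * ρ a) : Module.finrank F V ≤ 1 := by
  obtain ⟨x, hx⟩ := exists_ne (0 : V)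
  have hinv : Invariant ρ (F ∙ x) := by
    intro g y hy
    obtain ⟨μ, hμ⟩ := exists_scalar ρ hirr (ρ g) fun b => h g b
    rw [hμ]
    simpa using Submodule.smul_mem _ μ hy
  have htop := (hirr _ hinv).resolve_left fun e => hx (Submodule.span_singleton_eq_bot.1 e)
  rw [← finrank_top F V, ← htop, finrank_span_singleton hx]

variable [Finite P] {p : ℕ} [hp : Fact p.Prime]

/-- In an irreducible nonabelian situation: an eigenvalue-permuting abelian normal subgroup. -/
theorem exists_twist (hP : IsPGroup p P) (ρ : P →* Module.End F V) [Nontrivial V]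
    (hirr : ∀ W : Submodule F V, Invariant ρ W → W = ⊥ ∨ W = ⊤)
    (hnc : ¬ ∀ a b : P, ρ a * ρ b = ρ b * ρ a) :
    ∃ (T : Module.End F V) (l : P →* F) (a : P), (∀ g, ρ g * T = l g • (T * ρ g)) ∧ l a ≠ 1 ∧
      (∀ x, T x = 0 → x = 0) := by
  set K := ρ.toHomUnits.ker with hK
  haveI : K.Normal := MonoidHom.normal_ker _
  have hKρ : ∀ g ∈ K, ρ g = 1 := fun g hg => by
    have := congrArg Units.val (MonoidHom.mem_ker.1 hg)
    simpa using this
  have hQ := hP.to_quotient K
  have hnc' : ¬ ∀ x y : P ⧸ K, x * y = y * x := fun h => hnc fun a b => by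
    have hm : (a * b)⁻¹ * (b * a) ∈ K := QuotientGroup.eq.1 (h (QuotientGroup.mk a) (QuotientGroup.mk b))
    have h1 := hKρ _ hm
    rw [← map_mul, ← map_mul]
    calc ρ (a * b) = ρ (a * b) * ρ ((a * b)⁻¹ * (b * a)) := by rw [h1, mul_one]
      _ = ρ (b * a) := by rw [← map_mul, mul_inv_cancel_left]
  have hZ : center (P ⧸ K) ≠ ⊤ := fun e => hnc' fun x y => mem_center_iff.1 (e ▸ mem_top y) x
  haveI : Nontrivial ((P ⧸ K) ⧸ center (P ⧸ K)) := QuotientGroup.nontrivial_iff.2 hZ
  haveI := (hQ.to_quotient (center (P ⧸ K))).center_nontrivial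
  obtain ⟨⟨z, hz⟩, hz1⟩ := exists_ne (1 : center ((P ⧸ K) ⧸ center (P ⧸ K)))
  obtain ⟨zq, rfl⟩ := QuotientGroup.mk_surjective z
  obtain ⟨b, rfl⟩ := QuotientGroup.mk_surjective zq
  have hb : (QuotientGroup.mk b : P ⧸ K) ∉ center (P ⧸ K) := fun hb =>
    hz1 (Subtype.ext ((QuotientGroup.eq_one_iff _).2 hb))
  -- every commutator with `b` is a scalar
  have hsc : ∀ g : P, ∃ μ : F, ρ (g * b * g⁻¹ * b⁻¹) = μ • 1 := by
    intro g
    refine exists_scalar ρ hirr _ fun x => ?_
    have hc : (QuotientGroup.mk (g * b * g⁻¹ * b⁻¹) : P ⧸ K) ∈ center (P ⧸ K) := by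
      refine (QuotientGroup.eq_one_iff _).1 ?_
      rw [QuotientGroup.mk_mul, QuotientGroup.mk_mul, QuotientGroup.mk_mul, QuotientGroup.mk_inv,
        QuotientGroup.mk_inv, QuotientGroup.mk_mul, QuotientGroup.mk_mul, QuotientGroup.mk_mul,
        QuotientGroup.mk_inv, QuotientGroup.mk_inv, mem_center_iff.1 hz _, mul_inv_cancel_right,
        mul_inv_cancel]
    set c := g * b * g⁻¹ * b⁻¹
    have hm : (c * x)⁻¹ * (x * c) ∈ K :=
      QuotientGroup.eq.1 (mem_center_iff.1 hc (QuotientGroup.mk x)).symm
    have h1 := hKρ _ hm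
    calc ρ c * ρ x = ρ (c * x) * ρ ((c * x)⁻¹ * (x * c)) := by
          rw [h1, mul_one]; exact (map_mul ρ _ _).symm
      _ = ρ x * ρ c := by rw [← map_mul, mul_inv_cancel_left, map_mul]
  choose l hl using hsc
  have hT0 : ∀ x, ρ b x = 0 → x = 0 := fun x hx => by
    rw [← apply_inv_apply ρ b x, hx, map_zero]
  have key : ∀ g, ρ g * ρ b = l g • (ρ b * ρ g) := fun g => by
    have e : g * b = g * b * g⁻¹ * b⁻¹ * (b * g) := by group
    rw [← map_mul, e, map_mul, hl g, map_mul, smul_mul_assoc, one_mul]
  have hinj : ∀ μ ν : F, μ • (ρ b) = ν • (ρ b) → μ = ν := by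
    intro μ ν h
    obtain ⟨x, hx⟩ := exists_ne (0 : V)
    have h1 := LinearMap.congr_fun h x
    simp only [LinearMap.smul_apply] at h1
    exact smul_left_injective F (fun e => hx (hT0 x e)) h1
  have hmul : ∀ g h : P, l (g * h) = l g * l h := by
    intro g h
    refine hinj _ _ ?_
    have e1 := key (g * h)
    rw [map_mul, mul_assoc, key h, mul_smul_comm, ← mul_assoc, key g, smul_mul_assoc, smul_smul,
      mul_assoc] at e1
    have e2 := congrArg (fun T => T * (ρ h⁻¹ * ρ g⁻¹)) e1
    simp only [smul_mul_assoc] at e2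
    have e3 : ρ b * (ρ g * ρ h) * (ρ h⁻¹ * ρ g⁻¹) = ρ b := by
      rw [← map_mul, ← map_mul, ← map_mul, ← map_mul, show b * (g * h) * (h⁻¹ * g⁻¹) = b by group]
    rw [e3, mul_comm (l h)] at e2
    exact e2.symm
  have hone : l 1 = 1 := hinj _ _ (by
    have e1 := key 1
    rw [map_one, one_mul, mul_one] at e1
    rw [← e1, one_smul])
  obtain ⟨a, ha⟩ : ∃ a, l a ≠ 1 := by
    by_contra h
    push Not at h
    refine hb (mem_center_iff.2 fun y => ?_)
    obtain ⟨y, rfl⟩ := QuotientGroup.mk_surjective y
    rw [← QuotientGroup.mk_mul, ← QuotientGroup.mk_mul]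
    refine QuotientGroup.eq.2 ?_
    rw [hK, MonoidHom.mem_ker]
    refine Units.ext ?_
    show ρ ((y * b)⁻¹ * (b * y)) = 1
    have e1 := key y
    rw [h y, one_smul, ← map_mul, ← map_mul] at e1
    rw [map_mul, ← e1, ← map_mul, inv_mul_cancel, map_one]
  exact ⟨ρ b, { toFun := l, map_one' := hone, map_mul' := hmul }, a, key, ha, hT0⟩

/-- In characteristic `p` an irreducible `p`-group action is one-dimensional. -/
theorem commute_of_char (hP : IsPGroup p P) (ρ : P →* Module.End F V) [Nontrivial V]
    (hirr : ∀ W : Submodule F V, Invariant ρ W → W = ⊥ ∨ W = ⊤) [CharP F p] :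
    ∀ a b : P, ρ a * ρ b = ρ b * ρ a := by
  by_contra hnc
  obtain ⟨T, l, a, -, ha, -⟩ := exists_twist hP ρ hirr hnc
  refine ha ?_
  obtain ⟨k, hk⟩ := hP a
  haveI : ExpChar F p := ExpChar.prime hp.out
  apply iterateFrobenius_inj F p k
  rw [iterateFrobenius_def, iterateFrobenius_def, one_pow, ← map_pow, hk, map_one]

/-- In characteristic `p` there are invariant subspaces of every dimension. -/
theorem exists_invariant_of_char (hP : IsPGroup p P) (ρ : P →* Module.End F V) [CharP F p] :
    ∀ i ≤ Module.finrank F V, ∃ W : Submodule F V, Invariant ρ W ∧ Module.finrank F W = i := by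
  intro i
  induction i with
  | zero => intro _; exact ⟨⊥, fun g x hx => by simp_all, finrank_bot F V⟩
  | succ i ih =>
    intro hi
    obtain ⟨W, hW, hWi⟩ := ih (by omega)
    set τ := quotAct ρ hW
    haveI : Nontrivial (V ⧸ W) := by
      rw [← Module.finrank_pos_iff (R := F)]
      have := W.finrank_quotient_add_finrank
      omega
    classical
    have hex : ∃ d, ∃ U : Submodule F (V ⧸ W), U ≠ ⊥ ∧ Invariant τ U ∧ Module.finrank F U = d :=
      ⟨_, ⊤, top_ne_bot, fun g x _ => Submodule.mem_top, rfl⟩
    obtain ⟨U, hUne, hUinv, hUd⟩ := Nat.find_spec hex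
    have hUmin : ∀ X : Submodule F (V ⧸ W), X ≠ ⊥ ∧ Invariant τ X → ¬ X < U := fun X hX hlt => by
      refine Nat.find_min hex ?_ ⟨X, hX.1, hX.2, rfl⟩
      rw [← hUd]
      exact Submodule.finrank_lt_finrank_of_lt hlt
    haveI : Nontrivial U := Submodule.nontrivial_iff_ne_bot.2 hUne
    have hirr : ∀ X : Submodule F U, Invariant (subAct τ hUinv) X → X = ⊥ ∨ X = ⊤ := by
      intro X hX
      by_cases hXb : X = ⊥
      · exact Or.inl hXb
      refine Or.inr ?_
      have hinj : Function.Injective U.subtype := U.injective_subtype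
      by_contra hXt
      refine hUmin (X.map U.subtype) ⟨fun e => hXb ?_, ?_⟩ ?_
      · exact Submodule.map_injective_of_injective hinj (e.trans (Submodule.map_bot _).symm)
      · rintro g _ ⟨x, hx, rfl⟩
        exact ⟨subAct τ hUinv g x, hX g x hx, rfl⟩
      · refine lt_of_le_of_ne (U.map_subtype_le X) fun e => hXt ?_
        exact Submodule.map_injective_of_injective hinj (e.trans (Submodule.map_subtype_top U).symm)
    have h1 := finrank_le_one_of_commute (subAct τ hUinv) hirr (commute_of_char hP _ hirr)
    have h0 : 0 < Module.finrank F U := Module.finrank_pos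
    refine ⟨U.comap W.mkQ, fun g x hx => ?_, ?_⟩
    · exact hUinv g (W.mkQ x) hx
    · have hle : W ≤ U.comap W.mkQ := fun x hx => by
        show W.mkQ x ∈ U
        rw [Submodule.mkQ_apply, (Submodule.Quotient.mk_eq_zero W).2 hx]
        exact U.zero_mem
      have h2 := (U.comap W.mkQ).finrank_quotient_add_finrank
      have h3 := U.finrank_quotient_add_finrank
      have h4 := W.finrank_quotient_add_finrank
      have h5 : Module.finrank F (V ⧸ U.comap W.mkQ) = Module.finrank F ((V ⧸ W) ⧸ U) := by
        have e : U = (U.comap W.mkQ).map W.mkQ :=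
          (Submodule.map_comap_eq_of_surjective W.mkQ_surjective U).symm
        conv_rhs => rw [e]
        exact (Submodule.quotientQuotientEquivQuotient W _ hle).finrank_eq.symm
      omega

/-- A complement to an invariant subspace when the group order is invertible. -/
theorem exists_invariant_compl (ρ : P →* Module.End F V) {W : Submodule F V} (hW : Invariant ρ W)
    (hcard : (Nat.card P : F) ≠ 0) : ∃ U : Submodule F V, Invariant ρ U ∧ IsCompl W U := by
  haveI := Fintype.ofFinite P
  obtain ⟨π₀, hπ₀⟩ := W.subtype.exists_leftInverse_of_injective W.ker_subtype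
  let Tm : P → V →ₗ[F] W := fun g => (((ρ g).restrict (hW g)).comp π₀).comp (ρ g⁻¹)
  let π : V →ₗ[F] W := (Nat.card P : F)⁻¹ • ∑ g : P, Tm g
  have hπw : ∀ x : W, π x = x := by
    intro x
    have h1 : ∀ g, Tm g x = x := fun g => by
      apply Subtype.ext
      show ρ g (π₀ (ρ g⁻¹ x) : V) = x
      have h2 : π₀ (ρ g⁻¹ x) = ⟨ρ g⁻¹ x, hW g⁻¹ x x.2⟩ :=
        LinearMap.congr_fun hπ₀ ⟨ρ g⁻¹ x, hW g⁻¹ x x.2⟩
      rw [h2]
      have := apply_inv_apply ρ g⁻¹ (x : V)
      rwa [inv_inv] at this
    simp only [π, LinearMap.smul_apply, LinearMap.sum_apply, h1, Finset.sum_const,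
      Finset.card_univ, ← Nat.card_eq_fintype_card]
    rw [← Nat.cast_smul_eq_nsmul F, smul_smul, inv_mul_cancel₀ hcard, one_smul]
  refine ⟨LinearMap.ker π, fun h x hx => ?_, LinearMap.isCompl_of_proj hπw⟩
  rw [LinearMap.mem_ker] at hx ⊢
  have h3 : ∑ g : P, Tm g (ρ h x) = (ρ h).restrict (hW h) (∑ g : P, Tm g x) := by
    rw [map_sum]
    refine (Fintype.sum_equiv (Equiv.mulLeft h) _ _ fun g => ?_).symm
    apply Subtype.ext
    show ρ h (ρ g (π₀ (ρ g⁻¹ x) : V)) = ρ (h * g) (π₀ (ρ (h * g)⁻¹ (ρ h x)) : V)
    rw [← Module.End.mul_apply (ρ (h * g)⁻¹), ← map_mul, show (h * g)⁻¹ * h = g⁻¹ by group,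
      map_mul, Module.End.mul_apply]
  simp only [π, LinearMap.smul_apply, LinearMap.sum_apply] at hx ⊢
  rw [h3, ← map_smul, hx, map_zero]

end Cfsg.Agent.DerivedLength

namespace Cfsg.Agent.DerivedLength

open Subgroup
open scoped commutatorElement

universe u v w

variable {F : Type v} [Field F] [IsAlgClosed F]

/-- The induction in characteristic `p`: unitriangular groups. -/
theorem derivedSeries_acts_trivially_char {p : ℕ} [hp : Fact p.Prime] [CharP F p] :
    ∀ (j n : ℕ) (P : Type u) [Group P] [Finite P], IsPGroup p P →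
      ∀ (V : Type w) [AddCommGroup V] [Module F V] [FiniteDimensional F V],
      Module.finrank F V = n → n ≤ 2 ^ j →
      ∀ (ρ : P →* Module.End F V), ∀ g ∈ derivedSeries P j, ρ g = 1 := by
  intro j
  induction j with
  | zero =>
    intro n P _ _ hP V _ _ _ hV hn ρ g _
    rcases Nat.eq_zero_or_pos n with h0 | hpos
    · haveI := Module.finrank_zero_iff (R := F) (M := V).1 (hV.trans h0)
      exact LinearMap.ext fun x => Subsingleton.elim _ _
    · have h1 : Module.finrank F V = 1 := by rw [hV]; norm_num at hn; omega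
      obtain ⟨v, hv, hspan⟩ := finrank_eq_one_iff'.1 h1
      obtain ⟨c, hc⟩ := hspan (ρ g v)
      obtain ⟨e, he⟩ := hP g
      have hpow : ∀ i : ℕ, ρ (g ^ i) v = c ^ i • v := by
        intro i
        induction i with
        | zero => simp
        | succ i ih => rw [pow_succ', map_mul, Module.End.mul_apply, ih, map_smul, ← hc, smul_smul, ← pow_succ]
      have h2 := hpow (p ^ e)
      rw [he, map_one, Module.End.one_apply] at h2
      haveI : ExpChar F p := ExpChar.prime hp.out
      have h3 : c ^ p ^ e = 1 := smul_left_injective F hv (by simpa using h2.symm)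
      have hc1 : c = 1 := by
        apply iterateFrobenius_inj F p e
        rw [iterateFrobenius_def, iterateFrobenius_def, one_pow, h3]
      refine LinearMap.ext fun x => ?_
      obtain ⟨d, rfl⟩ := hspan x
      rw [map_smul, ← hc, hc1, one_smul, Module.End.one_apply]
  | succ k ih =>
    intro n P _ _ hP V _ _ _ hV hn ρ g hg
    obtain ⟨W, hW, hWd⟩ := exists_invariant_of_char hP ρ (n / 2) (by omega)
    have hpow : (2 : ℕ) ^ (k + 1) = 2 * 2 ^ k := pow_succ' 2 k
    have hq := W.finrank_quotient_add_finrank
    have h1 : ∀ d ∈ derivedSeries P k, subAct ρ hW d = 1 := ih _ P hP W rfl (by omega) _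
    have h2 : ∀ d ∈ derivedSeries P k, quotAct ρ hW d = 1 := ih _ P hP (V ⧸ W) rfl (by omega) _
    have hsub : ∀ d ∈ derivedSeries P k, ∀ x, ρ d x - x ∈ W := fun d hd x => by
      rw [← Submodule.Quotient.eq]
      exact LinearMap.congr_fun (h2 d hd) (Submodule.Quotient.mk x)
    have hfix : ∀ d ∈ derivedSeries P k, ∀ x ∈ W, ρ d x = x := fun d hd x hx =>
      congrArg Subtype.val (LinearMap.congr_fun (h1 d hd) ⟨x, hx⟩)
    rw [derivedSeries_succ] at hg
    have hle : ⁅derivedSeries P k, derivedSeries P k⁆ ≤ ρ.toHomUnits.ker := by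
      rw [commutator_le]
      intro a ha b hb
      rw [MonoidHom.mem_ker, map_commutatorElement, commutatorElement_eq_one_iff_mul_comm]
      refine Units.ext (LinearMap.ext fun x => ?_)
      show ρ a (ρ b x) = ρ b (ρ a x)
      have e1 : ρ a (ρ b x - x) = ρ b x - x := hfix a ha _ (hsub b hb x)
      have e2 : ρ b (ρ a x - x) = ρ a x - x := hfix b hb _ (hsub a ha x)
      rw [map_sub] at e1 e2
      rw [eq_add_of_sub_eq e1, eq_add_of_sub_eq e2]
      abel
    have := congrArg Units.val (MonoidHom.mem_ker.1 (hle hg))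
    simpa using this

/-- The main induction. -/
theorem derivedSeries_acts_trivially {p : ℕ} [hp : Fact p.Prime] :
    ∀ (k n : ℕ) (P : Type u) [Group P] [Finite P], IsPGroup p P →
      ∀ (V : Type w) [AddCommGroup V] [Module F V] [FiniteDimensional F V],
      Module.finrank F V = n → n < 2 ^ (k + 1) →
      ∀ (ρ : P →* Module.End F V), ∀ g ∈ derivedSeries P (k + 1), ρ g = 1 := by
  intro k
  induction k with
  | zero =>
    intro n P _ _ hP V _ _ _ hV hn ρ g hg
    rw [derivedSeries_one] at hg
    refine eq_one_of_mem_commutator ρ (fun a b => ?_) hg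
    rcases Nat.eq_zero_or_pos n with h0 | hpos
    · haveI := Module.finrank_zero_iff (R := F) (M := V).1 (hV.trans h0)
      exact LinearMap.ext fun x => Subsingleton.elim _ _
    · have h1 : Module.finrank F V = 1 := by rw [hV]; norm_num at hn; omega
      obtain ⟨v, hv, hspan⟩ := finrank_eq_one_iff'.1 h1
      refine LinearMap.ext fun x => ?_
      obtain ⟨c, rfl⟩ := hspan x
      obtain ⟨ca, hca⟩ := hspan (ρ a v)
      obtain ⟨cb, hcb⟩ := hspan (ρ b v)
      simp only [Module.End.mul_apply, map_smul, ← hca, ← hcb, smul_smul]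
      congr 1
      ring
  | succ k ihk =>
    intro n
    induction n using Nat.strong_induction_on with
    | _ n ihn =>
    intro P _ _ hP V _ _ _ hV hn ρ g hg
    have hg1 : g ∈ _root_.commutator P := by
      rw [← derivedSeries_one]; exact derivedSeries_antitone P (by omega) hg
    by_cases hab : ∀ a b : P, ρ a * ρ b = ρ b * ρ a
    · exact eq_one_of_mem_commutator ρ hab hg1
    haveI : Nontrivial V := by
      by_contra h
      rw [not_nontrivial_iff_subsingleton] at h
      exact hab fun a b => LinearMap.ext fun x => Subsingleton.elim _ _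
    by_cases hchar : CharP F p
    · haveI := hchar
      exact derivedSeries_acts_trivially_char (k + 1 + 1) n P hP V hV (by omega) ρ g hg
    have hcard : (Nat.card P : F) ≠ 0 := by
      obtain ⟨j, hj⟩ := IsPGroup.iff_card.1 hP
      rw [hj, Nat.cast_pow]
      refine pow_ne_zero _ fun h => hchar ?_
      exact (CharP.charP_iff_prime_eq_zero hp.out).2 h
    by_cases hirr : ∀ W : Submodule F V, Invariant ρ W → W = ⊥ ∨ W = ⊤
    · obtain ⟨T, l, a, hTl, hla, hT0⟩ := exists_twist hP ρ hirr hab
      have hmove : ∀ (c : P) (μ : F) (x : V), x ∈ T.eigenspace μ →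
          ρ c x ∈ T.eigenspace (μ * l c⁻¹) := by
        intro c μ x hx
        rw [Module.End.mem_eigenspace_iff] at hx ⊢
        have h1 := LinearMap.congr_fun (hTl c) x
        simp only [Module.End.mul_apply, LinearMap.smul_apply, hx, map_smul] at h1
        have h2 : l c⁻¹ * l c = 1 := by rw [← map_mul, inv_mul_cancel, map_one]
        calc T (ρ c x) = (l c⁻¹ * l c) • T (ρ c x) := by rw [h2, one_smul]
          _ = (μ * l c⁻¹) • ρ c x := by rw [mul_smul, ← h1, smul_smul, mul_comm μ]
      have hinvS : Invariant ρ (⨆ μ, T.eigenspace μ) := by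
        intro c x hx
        induction hx using Submodule.iSup_induction' with
        | mem μ x hx => exact Submodule.mem_iSup_of_mem _ (hmove c μ x hx)
        | zero => simp
        | add x y _ _ hx hy => rw [map_add]; exact add_mem hx hy
      obtain ⟨μ₀, hμ₀⟩ := Module.End.exists_eigenvalue T
      have htop : (⨆ μ, T.eigenspace μ) = ⊤ :=
        (hirr _ hinvS).resolve_left fun e =>
          hμ₀ (le_bot_iff.1 ((le_iSup (fun μ => T.eigenspace μ) μ₀).trans e.le))
      let M : Subgroup P :=
        { carrier := {c | l c = 1}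
          one_mem' := map_one l
          mul_mem' := fun {x y} hx hy => by
            simp only [Set.mem_ofPred_eq, map_mul] at hx hy ⊢; rw [hx, hy, one_mul]
          inv_mem' := fun {x} hx => by
            simp only [Set.mem_ofPred_eq] at hx ⊢
            have : l x⁻¹ * l x = 1 := by rw [← map_mul, inv_mul_cancel, map_one]
            rwa [hx, mul_one] at this }
      have hM : _root_.commutator P ≤ M := by
        rw [_root_.commutator_def, commutator_le]
        intro x _ y _
        show l ⁅x, y⁆ = 1
        rw [commutatorElement_def, map_mul, map_mul, map_mul]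
        have hx : l x * l x⁻¹ = 1 := by rw [← map_mul, mul_inv_cancel, map_one]
        have hy : l y * l y⁻¹ = 1 := by rw [← map_mul, mul_inv_cancel, map_one]
        calc l x * l y * l x⁻¹ * l y⁻¹ = (l x * l x⁻¹) * (l y * l y⁻¹) := by ring
          _ = 1 := by rw [hx, hy, one_mul]
      have hhalf : ∀ μ : F, 2 * Module.finrank F (T.eigenspace μ) ≤ n := by
        intro μ
        by_cases hbot : T.eigenspace μ = ⊥
        · rw [hbot, finrank_bot]; omega
        obtain ⟨x₀, hx₀, hx₀0⟩ := Submodule.exists_mem_ne_zero_of_ne_bot hbot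
        have hμ0 : μ ≠ 0 := fun e => hx₀0 (hT0 x₀ (by
          rw [Module.End.mem_eigenspace_iff.1 hx₀, e, zero_smul]))
        have hla' : l a⁻¹ ≠ 1 := fun e => hla (by
          have : l a⁻¹ * l a = 1 := by rw [← map_mul, inv_mul_cancel, map_one]
          rwa [e, one_mul] at this)
        have hdis : Disjoint (T.eigenspace μ) (T.eigenspace (μ * l a⁻¹)) := by
          rw [Submodule.disjoint_def]
          intro x hx hx'
          rw [Module.End.mem_eigenspace_iff] at hx hx'
          by_contra h0
          refine hla' (mul_left_cancel₀ hμ0 ?_)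
          rw [mul_one]
          exact smul_left_injective F h0 (hx'.symm.trans hx)
        have hle : Module.finrank F (T.eigenspace μ) ≤ Module.finrank F (T.eigenspace (μ * l a⁻¹)) := by
          refine LinearMap.finrank_le_finrank_of_injective
            (f := (ρ a).restrict (fun x hx => hmove a μ x hx)) fun x y hxy => ?_
          have h1 : ρ a (x : V) = ρ a (y : V) := congrArg Subtype.val hxy
          exact Subtype.ext (by rw [← apply_inv_apply ρ a (x : V), h1, apply_inv_apply])
        have := Submodule.finrank_add_finrank_le_of_disjoint hdis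
        omega
      have hgM : g ∈ (derivedSeries M (k + 1)).map M.subtype := derivedSeries_succ_le_map hM (k + 1) hg
      obtain ⟨m, hm, rfl⟩ := hgM
      have hMinv : ∀ μ : F, Invariant (ρ.comp M.subtype) (T.eigenspace μ) := fun μ c x hx => by
        have hc : l ((c : P))⁻¹ = 1 := M.inv_mem c.2
        have := hmove (c : P) μ x hx
        rwa [hc, mul_one] at this
      have hfix : ∀ (μ : F), ∀ x ∈ T.eigenspace μ, ρ (m : P) x = x := by
        intro μ x hx
        have hh := hhalf μ
        have hpow : (2 : ℕ) ^ (k + 1 + 1) = 2 * 2 ^ (k + 1) := pow_succ' 2 (k + 1)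
        have h1 := ihk _ M (hP.to_subgroup M) (T.eigenspace μ) rfl (by omega)
          (subAct (ρ.comp M.subtype) (hMinv μ)) m hm
        exact congrArg Subtype.val (LinearMap.congr_fun h1 ⟨x, hx⟩)
      refine LinearMap.ext fun x => ?_
      have hx : x ∈ ⨆ μ, T.eigenspace μ := by rw [htop]; trivial
      show ρ (m : P) x = x
      induction hx using Submodule.iSup_induction' with
      | mem μ x hx => exact hfix μ x hx
      | zero => exact map_zero _
      | add x y _ _ hx hy => rw [map_add, hx, hy]
    · simp only [not_forall, not_or] at hirr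
      obtain ⟨W, hW, hWb, hWt⟩ := hirr
      obtain ⟨U, hU, hWU⟩ := exists_invariant_compl ρ hW hcard
      have hdim := Submodule.finrank_add_eq_of_isCompl hWU
      have hWpos : 0 < Module.finrank F W := by
        haveI := Submodule.nontrivial_iff_ne_bot.2 hWb
        exact Module.finrank_pos
      have hUpos : 0 < Module.finrank F U := by
        haveI := Submodule.nontrivial_iff_ne_bot.2 (fun e : U = ⊥ => hWt (by
          subst e
          exact eq_top_of_isCompl_bot hWU))
        exact Module.finrank_pos
      have h1 := ihn _ (by omega) P hP W rfl (by omega) (subAct ρ hW) g hg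
      have h2 := ihn _ (by omega) P hP U rfl (by omega) (subAct ρ hU) g hg
      refine LinearMap.ext fun x => ?_
      have hx : x ∈ W ⊔ U := by rw [hWU.sup_eq_top]; trivial
      obtain ⟨y, hy, z, hz, rfl⟩ := Submodule.mem_sup.1 hx
      have e1 : ρ g y = y := congrArg Subtype.val (LinearMap.congr_fun h1 ⟨y, hy⟩)
      have e2 : ρ g z = z := congrArg Subtype.val (LinearMap.congr_fun h2 ⟨z, hz⟩)
      rw [map_add, e1, e2]
      rfl

end Cfsg.Agent.DerivedLength
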