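import Cfsg.Agent.Lib.MaxClass.Degree
import Mathlib.GroupTheory.Solvable
import Mathlib.GroupTheory.PGroup

/-!
# The order of a `p`-group of given derived length (Hall, Mann)

`N` is a normal subgroup inside `γ i = lowerCentralSeries i`, so `⁅N, N⁆ ≤ γ (2i + 1)`.

* `hall`: if `⁅N, N⁆ ≠ ⊥` then `p ^ (i + 2)` divides the order of `N / ⁅N, N⁆`;
* `three_gen`: one more if `N` needs three generators modulo `γ (i + 1)`;
* if two suffice, `⁅N, N⁆` is cyclic modulo `γ (2i + 2)`, if one suffices it lies in `γ (2i + 2)`;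
* `order_bound`: `p ^ ((2^m - 1)(i + 1) + 2m) ≤ p * #N` if the `m`-th derived term of `N` is
  nontrivial.
-/

set_option autoImplicit false
set_option linter.style.haveILetI false

namespace Cfsg.Agent.DerivedLength.OrderBound

open Subgroup
open scoped commutatorElement

universe u

variable {G : Type u} [Group G]

local notation "γ" => Subgroup.lowerCentralSeries (⊤ : Subgroup G)

theorem commutator_lcs_le (i j : ℕ) : ⁅γ i, γ j⁆ ≤ γ (i + j + 1) :=
  MaxClass.lcs_comm_le i j

/-- The iterated commutators `[N, G, …, G]`. -/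
def down (N : Subgroup G) : ℕ → Subgroup G
  | 0 => N
  | j + 1 => ⁅down N j, (⊤ : Subgroup G)⁆

instance down_normal (N : Subgroup G) [hN : N.Normal] : ∀ j, (down N j).Normal
  | 0 => hN
  | j + 1 =>
    haveI := down_normal N j
    inferInstanceAs (⁅down N j, (⊤ : Subgroup G)⁆).Normal

theorem down_succ_le (N : Subgroup G) [N.Normal] (j : ℕ) : down N (j + 1) ≤ down N j :=
  commutator_le_left (down N j) ⊤

theorem down_le {N : Subgroup G} {i : ℕ} (hi : N ≤ γ i) : ∀ j, down N j ≤ γ (i + j)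
  | 0 => hi
  | j + 1 => by
    show ⁅down N j, (⊤ : Subgroup G)⁆ ≤ γ (i + j + 1)
    rw [Subgroup.lowerCentralSeries_succ]
    exact commutator_mono (down_le hi j) le_rfl

theorem commutator_down_lcs (N : Subgroup G) [N.Normal] :
    ∀ i j, ⁅down N j, γ i⁆ ≤ down N (j + i + 1)
  | 0, j => by
    rw [Subgroup.lowerCentralSeries_zero]
    exact le_rfl
  | i + 1, j => by
    rw [Subgroup.lowerCentralSeries_succ, commutator_comm]
    refine MaxClass.tsl ?_ ?_
    · -- `[[⊤, T j], γ i]`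
      rw [commutator_comm ⊤ (down N j)]
      show ⁅down N (j + 1), γ i⁆ ≤ _
      exact (commutator_down_lcs N i (j + 1)).trans (by rw [add_right_comm j 1 i]; exact le_of_eq rfl)
    · -- `[[T j, γ i], ⊤]`
      exact (commutator_mono (commutator_down_lcs N i j) le_rfl).trans (le_of_eq rfl)

/-- `⁅N, N⁆` is contained in `W` if it holds on generators. -/
theorem commutator_self_le {N X W : Subgroup G} [W.Normal] {S : Set G}
    (hgen : N ≤ closure S ⊔ X) (hSN : S ⊆ N)
    (hS : ∀ x ∈ S, ∀ y ∈ S, ⁅x, y⁆ ∈ W) (hX : ⁅X, N⁆ ≤ W) : ⁅N, N⁆ ≤ W := by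
  let π := QuotientGroup.mk' W
  have hker : ∀ z, π z = 1 ↔ z ∈ W := fun z => QuotientGroup.eq_one_iff z
  have hcomm : ∀ a b : G, ⁅a, b⁆ ∈ W ↔ π a * π b = π b * π a := by
    intro a b
    rw [← hker, map_commutatorElement, commutatorElement_eq_one_iff_mul_comm]
  rw [commutator_le]
  -- first fix the right argument among the generators
  have h1 : ∀ x ∈ N, ∀ y ∈ S, ⁅x, y⁆ ∈ W := by
    intro x hx y hy
    have : N ≤ (centralizer ({π y} : Set _)).comap π := by
      refine hgen.trans (sup_le ((closure_le _).2 fun z hz => ?_) fun z hz => ?_)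
      · exact mem_centralizer_singleton_iff.2 ((hcomm z y).1 (hS z hz y hy))
      · exact mem_centralizer_singleton_iff.2
          ((hcomm z y).1 (hX (commutator_mem_commutator hz (hSN hy))))
    exact (hcomm x y).2 (mem_centralizer_singleton_iff.1 (this hx))
  intro x hx y hy
  have : N ≤ (centralizer ({π x} : Set _)).comap π := by
    refine hgen.trans (sup_le ((closure_le _).2 fun z hz => ?_) fun z hz => ?_)
    · exact mem_centralizer_singleton_iff.2 ((hcomm x z).1 (h1 x hx z hz)).symm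
    · exact mem_centralizer_singleton_iff.2
        ((hcomm z x).1 (hX (commutator_mem_commutator hz hx)))
  exact (hcomm x y).2 (mem_centralizer_singleton_iff.1 (this hy)).symm

/-- One element generates `N` modulo `γ (i + 1)`. -/
def Gen1 (N : Subgroup G) (i : ℕ) : Prop :=
  ∃ a ∈ N, N ≤ closure {a} ⊔ (N ⊓ γ (i + 1))

/-- Two elements generate `N` modulo `γ (i + 1)`. -/
def Gen2 (N : Subgroup G) (i : ℕ) : Prop :=
  ∃ a ∈ N, ∃ b ∈ N, N ≤ closure {a, b} ⊔ (N ⊓ γ (i + 1))

theorem commutator_le_of_gen1 {N : Subgroup G} {i : ℕ} (hi : N ≤ γ i) (h : Gen1 N i) :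
    ⁅N, N⁆ ≤ γ (2 * i + 2) := by
  obtain ⟨a, ha, hgen⟩ := h
  refine commutator_self_le hgen (by simpa using ha) ?_ ?_
  · intro x hx y hy
    rw [Set.mem_singleton_iff] at hx hy
    rw [hx, hy, commutatorElement_self]
    exact one_mem _
  · exact (commutator_mono inf_le_right hi).trans
      ((commutator_lcs_le (i + 1) i).trans (le_of_eq (by congr 1; omega)))

theorem gen1_commutator_of_gen2 {N : Subgroup G} [N.Normal] {i : ℕ} (hi : N ≤ γ i)
    (h : Gen2 N i) : Gen1 ⁅N, N⁆ (2 * i + 1) := by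
  obtain ⟨a, ha, b, hb, hgen⟩ := h
  have hab : ⁅a, b⁆ ∈ ⁅N, N⁆ := commutator_mem_commutator ha hb
  have hN' : ⁅N, N⁆ ≤ γ (2 * i + 1) := (commutator_mono hi hi).trans
    ((commutator_lcs_le i i).trans (le_of_eq (by congr 1; omega)))
  set W := closure {⁅a, b⁆} ⊔ (⁅N, N⁆ ⊓ γ (2 * i + 1 + 1)) with hW
  have hWle : W ≤ ⁅N, N⁆ := sup_le ((closure_le _).2 (by simpa using hab)) inf_le_left
  haveI : W.Normal := commutator_top_right_le_iff.1 (le_sup_of_le_right (le_inf
    ((commutator_mono hWle le_rfl).trans (commutator_le_left _ _))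
    ((commutator_mono (hWle.trans hN') le_rfl).trans
      (Subgroup.lowerCentralSeries_succ (S := ⊤) (2 * i + 1)).ge)))
  refine ⟨_, hab, commutator_self_le (W := W) hgen ?_ ?_ ?_⟩
  · intro x hx
    rcases hx with rfl | hx
    · exact ha
    · rw [Set.mem_singleton_iff] at hx; exact hx ▸ hb
  · have h1 : ⁅a, b⁆ ∈ W := mem_sup_left (subset_closure rfl)
    intro x hx y hy
    rcases hx with rfl | hx <;> rcases hy with rfl | hy
    · rw [commutatorElement_self]; exact one_mem _
    · rw [Set.mem_singleton_iff] at hy; exact hy ▸ h1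
    · rw [Set.mem_singleton_iff] at hx
      rw [hx, ← commutatorElement_inv]
      exact inv_mem h1
    · rw [Set.mem_singleton_iff] at hx hy
      rw [hx, hy, commutatorElement_self]; exact one_mem _
  · refine le_sup_of_le_right (le_inf (commutator_mono inf_le_left le_rfl) ?_)
    exact (commutator_mono inf_le_right hi).trans
      ((commutator_lcs_le (i + 1) i).trans (le_of_eq (by congr 1; omega)))

variable [Finite G] {p : ℕ} [Fact p.Prime] (hG : IsPGroup p G)
include hG

theorem le_mul_card {K L : Subgroup G} (hlt : K < L) : p * Nat.card K ≤ Nat.card L := by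
  obtain ⟨a, ha⟩ := (hG.to_subgroup K).exists_card_eq
  obtain ⟨b, hb⟩ := (hG.to_subgroup L).exists_card_eq
  have h1 : Nat.card K < Nat.card L := lt_of_le_of_ne (card_le_of_le hlt.le)
    fun e => hlt.ne (eq_of_le_of_card_ge hlt.le e.ge)
  have hp : 2 ≤ p := (Fact.out : p.Prime).two_le
  have hab : a + 1 ≤ b := by
    by_contra hc
    have : p ^ b ≤ p ^ a := Nat.pow_le_pow_right (by omega) (by omega)
    omega
  rw [ha, hb, ← pow_succ']
  exact Nat.pow_le_pow_right (by omega) hab

/-- Nothing nontrivial is contained in its commutator with the group. -/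
theorem eq_bot_of_le_commutator {K : Subgroup G} (h : K ≤ ⁅K, (⊤ : Subgroup G)⁆) : K = ⊥ := by
  haveI := hG.isNilpotent
  obtain ⟨n, hn⟩ := (Subgroup.nilpotent_iff_lowerCentralSeries (G := G)).1 inferInstance
  have : ∀ n, K ≤ γ n := by
    intro n
    induction n with
    | zero => rw [Subgroup.lowerCentralSeries_zero]; exact le_top
    | succ n ih =>
      rw [Subgroup.lowerCentralSeries_succ]
      exact h.trans (commutator_mono ih le_rfl)
  exact le_bot_iff.1 (hn ▸ this n)

variable {N : Subgroup G} [N.Normal]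

/-- A stationary step of the chain `[N, G, …, G] ⊔ ⁅N, N⁆` is the last one. -/
theorem down_le_of_stationary {j : ℕ} (h : down N j ≤ down N (j + 1) ⊔ ⁅N, N⁆) :
    down N j ≤ ⁅N, N⁆ := by
  haveI : (⁅N, N⁆ : Subgroup G).Normal := inferInstance
  let π := QuotientGroup.mk' ⁅N, N⁆
  haveI := hG.to_quotient ⁅N, N⁆
  have hK : (down N j).map π ≤ ⁅(down N j).map π, (⊤ : Subgroup _)⁆ := by
    refine (map_mono h).trans ?_
    rw [Subgroup.map_sup, QuotientGroup.map_mk'_self, sup_bot_eq]
    show map π ⁅down N j, (⊤ : Subgroup G)⁆ ≤ _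
    rw [map_commutator]
    exact commutator_mono le_rfl le_top
  have := eq_bot_of_le_commutator (hG.to_quotient ⁅N, N⁆) hK
  rwa [Subgroup.map_eq_bot_iff, QuotientGroup.ker_mk'] at this

theorem card_chain {k : ℕ} : ∀ j, (∀ l < j, ¬ down N (k + l) ≤ ⁅N, N⁆) →
    p ^ j * Nat.card ↥(down N (k + j) ⊔ ⁅N, N⁆) ≤ Nat.card ↥(down N k ⊔ ⁅N, N⁆)
  | 0, _ => by simp
  | j + 1, h => by
    have hlt : down N (k + (j + 1)) ⊔ ⁅N, N⁆ < down N (k + j) ⊔ ⁅N, N⁆ := by
      refine lt_of_le_of_ne (sup_le_sup_right (down_succ_le N (k + j)) _) fun e => ?_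
      exact h j (Nat.lt_succ_self j) (down_le_of_stationary hG (e ▸ le_sup_left))
    calc p ^ (j + 1) * Nat.card ↥(down N (k + (j + 1)) ⊔ ⁅N, N⁆)
        = p ^ j * (p * Nat.card ↥(down N (k + (j + 1)) ⊔ ⁅N, N⁆)) := by ring
      _ ≤ p ^ j * Nat.card ↥(down N (k + j) ⊔ ⁅N, N⁆) := Nat.mul_le_mul_left _ (le_mul_card hG hlt)
      _ ≤ _ := card_chain j fun l hl => h l (Nat.lt_succ_of_lt hl)

theorem not_down_le {i : ℕ} (hi : N ≤ γ i) (hne : ⁅N, N⁆ ≠ ⊥) {l : ℕ} (hl : l ≤ i) :
    ¬ down N l ≤ ⁅N, N⁆ := fun h => hne (eq_bot_of_le_commutator hG (by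
  have h1 : ⁅N, N⁆ ≤ down N (i + 1) :=
    (commutator_mono le_rfl hi).trans ((commutator_down_lcs N i 0).trans (by rw [zero_add]))
  have h2 : ∀ d, down N (l + d) ≤ down N l := by
    intro d
    induction d with
    | zero => exact le_rfl
    | succ d ih => exact (down_succ_le N (l + d)).trans ih
  refine h1.trans ?_
  show ⁅down N i, (⊤ : Subgroup G)⁆ ≤ _
  refine commutator_mono ?_ le_rfl
  obtain ⟨d, rfl⟩ := Nat.exists_eq_add_of_le hl
  exact (h2 d).trans h))

/-- **Hall's lemma.** -/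
theorem hall {i : ℕ} (hi : N ≤ γ i) (hne : ⁅N, N⁆ ≠ ⊥) :
    p ^ (i + 2) * Nat.card ↥⁅N, N⁆ ≤ Nat.card N := by
  have hU : down N 1 ⊔ ⁅N, N⁆ ≤ N :=
    sup_le (down_succ_le N 0) (commutator_le_self N)
  have htop : down N 0 ⊔ ⁅N, N⁆ = N := sup_eq_left.2 (commutator_le_self N)
  by_cases hg : ∃ a ∈ N, N ≤ closure {a} ⊔ (down N 1 ⊔ ⁅N, N⁆)
  · obtain ⟨a, ha, hgen⟩ := hg
    have hlast : ¬ down N (i + 1) ≤ ⁅N, N⁆ := by
      intro h
      apply hne
      refine eq_bot_of_le_commutator hG ?_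
      refine commutator_self_le (W := ⁅⁅N, N⁆, (⊤ : Subgroup G)⁆) hgen (by simpa using ha)
        (fun x hx y hy => ?_) ?_
      · rw [Set.mem_singleton_iff] at hx hy
        rw [hx, hy, commutatorElement_self]
        exact one_mem _
      · rw [commutator_le]
        intro x hx y hy
        let π := QuotientGroup.mk' ⁅⁅N, N⁆, (⊤ : Subgroup G)⁆
        have : down N 1 ⊔ ⁅N, N⁆ ≤ (centralizer ({π y} : Set _)).comap π := by
          refine sup_le (fun z hz => ?_) fun z hz => ?_ <;>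
            refine mem_centralizer_singleton_iff.2 ?_ <;>
            rw [← commutatorElement_eq_one_iff_mul_comm, ← map_commutatorElement,
              QuotientGroup.mk'_apply, QuotientGroup.eq_one_iff]
          · have h1 := (commutator_down_lcs N i 1) (commutator_mem_commutator hz (hi hy))
            rw [show 1 + i + 1 = (i + 1) + 1 by omega] at h1
            exact commutator_mono h le_rfl h1
          · exact commutator_mem_commutator hz (mem_top y)
        have h2 := mem_centralizer_singleton_iff.1 (this hx)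
        rwa [← commutatorElement_eq_one_iff_mul_comm, ← map_commutatorElement,
          QuotientGroup.mk'_apply, QuotientGroup.eq_one_iff] at h2
    have h := card_chain hG (N := N) (k := 0) (i + 2) fun l hl => by
      rw [zero_add]
      rcases Nat.lt_succ_iff_lt_or_eq.1 hl with h' | rfl
      · exact not_down_le hG hi hne (Nat.lt_succ_iff.1 h')
      · exact hlast
    rw [htop] at h
    exact (Nat.mul_le_mul_left _ (card_le_of_le le_sup_right)).trans h
  · push Not at hg
    obtain ⟨a, haN, ha⟩ : ∃ a ∈ N, a ∉ down N 1 ⊔ ⁅N, N⁆ := by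
      refine SetLike.exists_of_lt (lt_of_le_of_ne hU fun e => hg 1 (one_mem _) ?_)
      rw [e]; exact le_sup_right
    have hlt : down N 1 ⊔ ⁅N, N⁆ < closure {a} ⊔ (down N 1 ⊔ ⁅N, N⁆) :=
      lt_of_le_of_ne le_sup_right fun e => ha (e ▸ mem_sup_left (subset_closure rfl))
    have hlt2 : closure {a} ⊔ (down N 1 ⊔ ⁅N, N⁆) < N :=
      lt_of_le_not_ge (sup_le ((closure_le _).2 (by simpa using haN)) hU) (hg a haN)
    have h1 := le_mul_card hG hlt
    have h2 := le_mul_card hG hlt2
    have h := card_chain hG (N := N) (k := 1) i fun l hl =>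
      not_down_le hG hi hne (by omega)
    calc p ^ (i + 2) * Nat.card ↥⁅N, N⁆
        ≤ p ^ (i + 2) * Nat.card ↥(down N (1 + i) ⊔ ⁅N, N⁆) :=
          Nat.mul_le_mul_left _ (card_le_of_le le_sup_right)
      _ = p * (p * (p ^ i * Nat.card ↥(down N (1 + i) ⊔ ⁅N, N⁆))) := by ring
      _ ≤ p * (p * Nat.card ↥(down N 1 ⊔ ⁅N, N⁆)) :=
          Nat.mul_le_mul_left _ (Nat.mul_le_mul_left _ h)
      _ ≤ p * Nat.card ↥(closure {a} ⊔ (down N 1 ⊔ ⁅N, N⁆)) := Nat.mul_le_mul_left _ h1
      _ ≤ Nat.card N := h2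

/-- Three generators give one more. -/
theorem three_gen {i : ℕ} (hi : N ≤ γ i) (hne : ⁅N, N⁆ ≠ ⊥) (h2g : ¬ Gen2 N i) :
    p ^ (i + 3) * Nat.card ↥⁅N, N⁆ ≤ Nat.card N := by
  set U := down N 1 ⊔ ⁅N, N⁆ with hUdef
  have hU : U ≤ N := sup_le (down_succ_le N 0) (commutator_le_self N)
  have hUg : U ≤ N ⊓ γ (i + 1) := by
    refine le_inf hU (sup_le (down_le hi 1) ?_)
    exact ((commutator_mono hi hi).trans (commutator_lcs_le i i)).trans
      (Subgroup.lowerCentralSeries_antitone _ (by omega))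
  unfold Gen2 at h2g
  push Not at h2g
  have hmore : ∀ a ∈ N, ∀ b ∈ N, ¬ N ≤ closure {a, b} ⊔ U := fun a ha b hb hle =>
    h2g a ha b hb (hle.trans (sup_le_sup_left hUg _))
  obtain ⟨a, haN, ha⟩ : ∃ a ∈ N, a ∉ U := by
    refine SetLike.exists_of_lt (lt_of_le_of_ne hU fun e => hmore 1 (one_mem _) 1 (one_mem _) ?_)
    rw [e]; exact le_sup_right
  set V := closure {a} ⊔ U
  have hV : V ≤ N := sup_le ((closure_le _).2 (by simpa using haN)) hU
  obtain ⟨b, hbN, hb⟩ : ∃ b ∈ N, b ∉ V := by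
    refine SetLike.exists_of_lt (lt_of_le_of_ne hV fun e => hmore a haN a haN ?_)
    rw [Set.pair_eq_singleton]
    exact e.ge
  set W := closure {b} ⊔ V
  have hW : W ≤ N := sup_le ((closure_le _).2 (by simpa using hbN)) hV
  have hlt1 : U < V := lt_of_le_of_ne le_sup_right fun e => ha (e ▸ mem_sup_left (subset_closure rfl))
  have hlt2 : V < W := lt_of_le_of_ne le_sup_right fun e => hb (e ▸ mem_sup_left (subset_closure rfl))
  have hlt3 : W < N := by
    refine lt_of_le_not_ge hW fun hge => hmore a haN b hbN (hge.trans ?_)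
    refine sup_le ((closure_le _).2 ?_) (sup_le ((closure_le _).2 ?_) le_sup_right)
    · simpa using mem_sup_left (T := U) (subset_closure (show b ∈ ({a, b} : Set G) by simp))
    · simpa using mem_sup_left (T := U) (subset_closure (show a ∈ ({a, b} : Set G) by simp))
  have h := card_chain hG (N := N) (k := 1) i fun l hl => not_down_le hG hi hne (by omega)
  calc p ^ (i + 3) * Nat.card ↥⁅N, N⁆
      ≤ p ^ (i + 3) * Nat.card ↥(down N (1 + i) ⊔ ⁅N, N⁆) :=
        Nat.mul_le_mul_left _ (card_le_of_le le_sup_right)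
    _ = p * (p * (p * (p ^ i * Nat.card ↥(down N (1 + i) ⊔ ⁅N, N⁆)))) := by ring
    _ ≤ p * (p * (p * Nat.card U)) :=
        Nat.mul_le_mul_left _ (Nat.mul_le_mul_left _ (Nat.mul_le_mul_left _ h))
    _ ≤ p * (p * Nat.card V) :=
        Nat.mul_le_mul_left _ (Nat.mul_le_mul_left _ (le_mul_card hG hlt1))
    _ ≤ p * Nat.card W := Nat.mul_le_mul_left _ (le_mul_card hG hlt2)
    _ ≤ Nat.card N := le_mul_card hG hlt3

omit hG [Finite G] [Fact p.Prime] [N.Normal]

/-- The derived series of a subgroup, inside the group. -/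
def der : ℕ → Subgroup G → Subgroup G
  | 0, N => N
  | m + 1, N => der m ⁅N, N⁆

theorem der_bot : ∀ m, der m (⊥ : Subgroup G) = ⊥
  | 0 => rfl
  | m + 1 => by
    show der m ⁅(⊥ : Subgroup G), ⊥⁆ = ⊥
    rw [commutator_bot_left, der_bot m]

theorem der_derivedSeries : ∀ m j, der m (derivedSeries G j) = derivedSeries G (j + m)
  | 0, j => rfl
  | m + 1, j => by
    show der m ⁅derivedSeries G j, derivedSeries G j⁆ = _
    rw [← derivedSeries_succ, der_derivedSeries m (j + 1)]
    congr 1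
    omega

/-- The bound `(2^m - 1)(i + 1) + 2m`. -/
def expo (i m : ℕ) : ℕ := (2 ^ m - 1) * (i + 1) + 2 * m

theorem expo_succ (i m : ℕ) :
    expo i (m + 1) = expo (2 * i + 1) m + (i + 3) ∧
      expo i (m + 1) + 2 ^ m = expo (2 * i + 2) m + (i + 4) := by
  unfold expo
  obtain ⟨k, hk⟩ : ∃ k, 2 ^ m = k + 1 := ⟨2 ^ m - 1, (Nat.succ_pred_eq_of_pos (by positivity)).symm⟩
  have hk' : 2 ^ (m + 1) - 1 = 2 * k + 1 := by rw [pow_succ, hk]; omega
  rw [hk', hk, Nat.add_sub_cancel]
  constructor <;> ring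

variable [Finite G] [Fact p.Prime] (hG : IsPGroup p G)
include hG

theorem le_card_of_ne_bot {K : Subgroup G} (h : K ≠ ⊥) : p ≤ Nat.card K := by
  simpa using le_mul_card hG (bot_lt_iff_ne_bot.2 h)

/-- One derived step: the exact bound. -/
theorem one_step {N : Subgroup G} [N.Normal] {i : ℕ} (hi : N ≤ γ i) (hne : ⁅N, N⁆ ≠ ⊥) :
    p ^ (i + 3) ≤ Nat.card N :=
  calc p ^ (i + 3) = p ^ (i + 2) * p := pow_succ _ _
    _ ≤ p ^ (i + 2) * Nat.card ↥⁅N, N⁆ := Nat.mul_le_mul_left _ (le_card_of_ne_bot hG hne)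
    _ ≤ Nat.card N := hall hG hi hne

/-- **The bound**, off by one exactly when two generators are needed. -/
theorem order_bound : ∀ (m i : ℕ) (N : Subgroup G), N.Normal → N ≤ γ i → der m N ≠ ⊥ →
    p ^ expo i m ≤ p * Nat.card N ∧ (Gen1 N i → p ^ expo i m ≤ Nat.card N)
  | 0, i, N, _, _, _ => by
    have h1 : 1 ≤ Nat.card N := Nat.card_pos
    have hp : 1 ≤ p := (Fact.out : p.Prime).one_le
    simp only [expo, pow_zero, Nat.sub_self, zero_mul, mul_zero, add_zero]
    exact ⟨by nlinarith, fun _ => h1⟩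
  | m + 1, i, N, hN, hi, hne => by
    haveI := hN
    have hp : 2 ≤ p := (Fact.out : p.Prime).two_le
    have hne' : ⁅N, N⁆ ≠ ⊥ := fun e => hne (by
      show der m ⁅N, N⁆ = ⊥
      rw [e, der_bot])
    have hne'' : der m ⁅N, N⁆ ≠ ⊥ := hne
    obtain ⟨he1, he2⟩ := expo_succ i m
    by_cases h1 : Gen1 N i
    · suffices h : p ^ expo i (m + 1) ≤ Nat.card N from
        ⟨h.trans (Nat.le_mul_of_pos_left _ (by omega)), fun _ => h⟩
      have hle := commutator_le_of_gen1 hi h1
      match m, hne'', he2 with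
      | 0, _, _ =>
        simp only [expo, zero_add, pow_one]
        exact (one_step hG hi hne').trans' (le_of_eq (by congr 1; omega))
      | 1, hne'', he2 =>
        have h := one_step hG (N := ⁅N, N⁆) hle hne''
        calc p ^ expo i 2 = p ^ (i + 2) * p ^ (2 * i + 2 + 3) := by
              rw [← pow_add]; congr 1; simp [expo]; omega
          _ ≤ p ^ (i + 2) * Nat.card ↥⁅N, N⁆ := Nat.mul_le_mul_left _ h
          _ ≤ Nat.card N := hall hG hi hne'
      | m + 2, hne'', he2 =>
        obtain ⟨h, -⟩ := order_bound (m + 2) (2 * i + 2) ⁅N, N⁆ inferInstance hle hne''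
        have h4 : 4 ≤ 2 ^ (m + 2) := by
          calc 4 = 2 ^ 2 := rfl
            _ ≤ 2 ^ (m + 2) := Nat.pow_le_pow_right (by omega) (by omega)
        calc p ^ expo i (m + 2 + 1) ≤ p ^ (i + 1 + expo (2 * i + 2) (m + 2)) :=
              Nat.pow_le_pow_right (by omega) (by omega)
          _ = p ^ (i + 1) * p ^ expo (2 * i + 2) (m + 2) := pow_add _ _ _
          _ ≤ p ^ (i + 1) * (p * Nat.card ↥⁅N, N⁆) := Nat.mul_le_mul_left _ h
          _ = p ^ (i + 2) * Nat.card ↥⁅N, N⁆ := by ring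
          _ ≤ Nat.card N := hall hG hi hne'
    · refine ⟨?_, fun h => absurd h h1⟩
      have hi' : ⁅N, N⁆ ≤ γ (2 * i + 1) := (commutator_mono hi hi).trans
        ((commutator_lcs_le i i).trans (le_of_eq (by congr 1; omega)))
      obtain ⟨hA, hB⟩ := order_bound m (2 * i + 1) ⁅N, N⁆ inferInstance hi' hne''
      rw [he1, pow_add]
      by_cases h2 : Gen2 N i
      · calc p ^ expo (2 * i + 1) m * p ^ (i + 3)
            ≤ Nat.card ↥⁅N, N⁆ * p ^ (i + 3) :=
              Nat.mul_le_mul_right _ (hB (gen1_commutator_of_gen2 hi h2))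
          _ = p * (p ^ (i + 2) * Nat.card ↥⁅N, N⁆) := by ring
          _ ≤ p * Nat.card N := Nat.mul_le_mul_left _ (hall hG hi hne')
      · calc p ^ expo (2 * i + 1) m * p ^ (i + 3)
            ≤ p * Nat.card ↥⁅N, N⁆ * p ^ (i + 3) := Nat.mul_le_mul_right _ hA
          _ = p * (p ^ (i + 3) * Nat.card ↥⁅N, N⁆) := by ring
          _ ≤ p * Nat.card N := Nat.mul_le_mul_left _ (three_gen hG hi hne' h2)

end Cfsg.Agent.DerivedLength.OrderBound
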