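import Cfsg.Agent.S4417

/-!
# Derived length of linear `p`-groups, base `p`

In characteristic other than `p`, a `p`-group acting linearly in dimension `n < p ^ j` has its
`j`-th derived subgroup acting trivially.
-/

set_option autoImplicit false

namespace Cfsg.Agent.DerivedLength

open Subgroup
open scoped commutatorElement

universe u v w

variable {F : Type v} [Field F] [IsAlgClosed F]

/-- The induction with base `p`. -/
theorem derivedSeries_acts_trivially_base {p : ℕ} [hp : Fact p.Prime] (hpF : (p : F) ≠ 0) :
    ∀ (k n : ℕ) (P : Type u) [Group P] [Finite P], IsPGroup p P →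
      ∀ (V : Type w) [AddCommGroup V] [Module F V] [FiniteDimensional F V],
      Module.finrank F V = n → n < p ^ k →
      ∀ (ρ : P →* Module.End F V), ∀ g ∈ derivedSeries P k, ρ g = 1 := by
  intro k
  induction k with
  | zero =>
    intro n P _ _ hP V _ _ _ hV hn ρ g _
    rw [pow_zero, Nat.lt_one_iff] at hn
    haveI := Module.finrank_zero_iff (R := F) (M := V).1 (hV.trans hn)
    exact LinearMap.ext fun x => Subsingleton.elim _ _
  | succ k ihk =>
    intro n
    induction n using Nat.strong_induction_on with
    | _ n ihn =>
    intro P _ _ hP V _ _ _ hV hn ρ g hg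
    have hg1 : g ∈ _root_.commutator P := by
      rw [← derivedSeries_one]; exact derivedSeries_antitone P (by omega) hg
    by_cases hab : ∀ a b : P, ρ a * ρ b = ρ b * ρ a
    · exact eq_one_of_mem_commutator ρ hab hg1
    haveI : Nontrivial V := by
      by_contra h
      rw [not_nontrivial_iff_subsingleton] at h
      exact hab fun a b => LinearMap.ext fun x => Subsingleton.elim _ _
    have hcard : (Nat.card P : F) ≠ 0 := by
      obtain ⟨j, hj⟩ := IsPGroup.iff_card.1 hP
      rw [hj, Nat.cast_pow]
      exact pow_ne_zero _ hpF
    by_cases hirr : ∀ W : Submodule F V, Invariant ρ W → W = ⊥ ∨ W = ⊤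
    · obtain ⟨T, l, a, hTl, hla, hT0⟩ := exists_twist hP ρ hirr hab
      have hmove : ∀ (c : P) (μ : F) (x : V), x ∈ T.eigenspace μ →
          ρ c x ∈ T.eigenspace (μ * l c⁻¹) := by
        intro c μ x hx
        rw [Module.End.mem_eigenspace_iff] at hx ⊢
        have h1 := LinearMap.congr_fun (hTl c) x
        simp only [Module.End.mul_apply, LinearMap.smul_apply, hx, map_smul] at h1
        have h2 : l c⁻¹ * l c = 1 := by rw [← map_mul, inv_mul_cancel, map_one]
        calc T (ρ c x) = (l c⁻¹ * l c) • T (ρ c x) := by rw [h2, one_smul]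
          _ = (μ * l c⁻¹) • ρ c x := by rw [mul_smul, ← h1, smul_smul, mul_comm μ]
      have hinvS : Invariant ρ (⨆ μ, T.eigenspace μ) := by
        intro c x hx
        induction hx using Submodule.iSup_induction' with
        | mem μ x hx => exact Submodule.mem_iSup_of_mem _ (hmove c μ x hx)
        | zero => simp
        | add x y _ _ hx hy => rw [map_add]; exact add_mem hx hy
      obtain ⟨μ₀, hμ₀⟩ := Module.End.exists_eigenvalue T
      have htop : (⨆ μ, T.eigenspace μ) = ⊤ :=
        (hirr _ hinvS).resolve_left fun e =>
          hμ₀ (le_bot_iff.1 ((le_iSup (fun μ => T.eigenspace μ) μ₀).trans e.le))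
      let M : Subgroup P :=
        { carrier := {c | l c = 1}
          one_mem' := map_one l
          mul_mem' := fun {x y} hx hy => by
            simp only [Set.mem_ofPred_eq, map_mul] at hx hy ⊢; rw [hx, hy, one_mul]
          inv_mem' := fun {x} hx => by
            simp only [Set.mem_ofPred_eq] at hx ⊢
            have : l x⁻¹ * l x = 1 := by rw [← map_mul, inv_mul_cancel, map_one]
            rwa [hx, mul_one] at this }
      have hM : _root_.commutator P ≤ M := by
        rw [_root_.commutator_def, commutator_le]
        intro x _ y _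
        show l ⁅x, y⁆ = 1
        rw [commutatorElement_def, map_mul, map_mul, map_mul]
        have hx : l x * l x⁻¹ = 1 := by rw [← map_mul, mul_inv_cancel, map_one]
        have hy : l y * l y⁻¹ = 1 := by rw [← map_mul, mul_inv_cancel, map_one]
        calc l x * l y * l x⁻¹ * l y⁻¹ = (l x * l x⁻¹) * (l y * l y⁻¹) := by ring
          _ = 1 := by rw [hx, hy, one_mul]
      have hpart : ∀ μ : F, p * Module.finrank F (T.eigenspace μ) ≤ n := by
        intro μ
        by_cases hbot : T.eigenspace μ = ⊥
        · rw [hbot, finrank_bot, mul_zero]; exact Nat.zero_le n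
        obtain ⟨x₀, hx₀, hx₀0⟩ := Submodule.exists_mem_ne_zero_of_ne_bot hbot
        have hμ0 : μ ≠ 0 := fun e => hx₀0 (hT0 x₀ (by
          rw [Module.End.mem_eigenspace_iff.1 hx₀, e, zero_smul]))
        set ν := l a⁻¹ with hν
        have hν1 : ν ≠ 1 := fun e => hla (by
          have : l a⁻¹ * l a = 1 := by rw [← map_mul, inv_mul_cancel, map_one]
          rwa [← hν, e, one_mul] at this)
        have hord : p ≤ orderOf ν := by
          obtain ⟨m, hm⟩ := IsPGroup.iff_orderOf.1 hP a⁻¹
          obtain ⟨j, -, hj⟩ := (Nat.dvd_prime_pow hp.out).1 (hm ▸ orderOf_map_dvd l a⁻¹)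
          rcases Nat.eq_zero_or_pos j with rfl | hj0
          · rw [pow_zero, orderOf_eq_one_iff] at hj; exact absurd hj hν1
          · rw [hν, hj]; exact Nat.le_self_pow hj0.ne' p
        have hinj : Function.Injective fun i : Fin p => μ * ν ^ (i : ℕ) := fun i j hij =>
          Fin.ext (pow_injOn_Iio_orderOf (lt_of_lt_of_le i.2 hord) (lt_of_lt_of_le j.2 hord)
            (mul_left_cancel₀ hμ0 hij))
        have hdim : ∀ i : ℕ, Module.finrank F (T.eigenspace μ) ≤
            Module.finrank F (T.eigenspace (μ * ν ^ i)) := by
          intro i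
          induction i with
          | zero => rw [pow_zero, mul_one]
          | succ i ih =>
            refine ih.trans ?_
            rw [pow_succ, ← mul_assoc]
            refine LinearMap.finrank_le_finrank_of_injective
              (f := (ρ a).restrict (fun x hx => hmove a (μ * ν ^ i) x hx)) fun x y hxy => ?_
            have h1 : ρ a (x : V) = ρ a (y : V) := congrArg Subtype.val hxy
            exact Subtype.ext (by rw [← apply_inv_apply ρ a (x : V), h1, apply_inv_apply])
        have h := S4417.mul_card_le_finrank (T.eigenspaces_iSupIndep.comp hinj)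
          (d := Module.finrank F (T.eigenspace μ)) fun i => hdim i
        rwa [Fintype.card_fin, hV] at h
      have hgM : g ∈ (derivedSeries M k).map M.subtype := derivedSeries_succ_le_map hM k hg
      obtain ⟨m, hm, rfl⟩ := hgM
      have hMinv : ∀ μ : F, Invariant (ρ.comp M.subtype) (T.eigenspace μ) := fun μ c x hx => by
        have hc : l ((c : P))⁻¹ = 1 := M.inv_mem c.2
        have := hmove (c : P) μ x hx
        rwa [hc, mul_one] at this
      have hfix : ∀ (μ : F), ∀ x ∈ T.eigenspace μ, ρ (m : P) x = x := by
        intro μ x hx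
        have hh := hpart μ
        rw [pow_succ'] at hn
        have h1 := ihk _ M (hP.to_subgroup M) (T.eigenspace μ) rfl
          (Nat.lt_of_mul_lt_mul_left (hh.trans_lt hn))
          (subAct (ρ.comp M.subtype) (hMinv μ)) m hm
        exact congrArg Subtype.val (LinearMap.congr_fun h1 ⟨x, hx⟩)
      refine LinearMap.ext fun x => ?_
      have hx : x ∈ ⨆ μ, T.eigenspace μ := by rw [htop]; trivial
      show ρ (m : P) x = x
      induction hx using Submodule.iSup_induction' with
      | mem μ x hx => exact hfix μ x hx
      | zero => exact map_zero _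
      | add x y _ _ hx hy => rw [map_add, hx, hy]
    · simp only [not_forall, not_or] at hirr
      obtain ⟨W, hW, hWb, hWt⟩ := hirr
      obtain ⟨U, hU, hWU⟩ := exists_invariant_compl ρ hW hcard
      have hdim := Submodule.finrank_add_eq_of_isCompl hWU
      have hWpos : 0 < Module.finrank F W := by
        haveI := Submodule.nontrivial_iff_ne_bot.2 hWb
        exact Module.finrank_pos
      have hUpos : 0 < Module.finrank F U := by
        haveI := Submodule.nontrivial_iff_ne_bot.2 (fun e : U = ⊥ => hWt (by
          subst e
          exact eq_top_of_isCompl_bot hWU))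
        exact Module.finrank_pos
      have h1 := ihn _ (by omega) P hP W rfl (by omega) (subAct ρ hW) g hg
      have h2 := ihn _ (by omega) P hP U rfl (by omega) (subAct ρ hU) g hg
      refine LinearMap.ext fun x => ?_
      have hx : x ∈ W ⊔ U := by rw [hWU.sup_eq_top]; trivial
      obtain ⟨y, hy, z, hz, rfl⟩ := Submodule.mem_sup.1 hx
      have e1 : ρ g y = y := congrArg Subtype.val (LinearMap.congr_fun h1 ⟨y, hy⟩)
      have e2 : ρ g z = z := congrArg Subtype.val (LinearMap.congr_fun h2 ⟨z, hz⟩)
      rw [map_add, e1, e2]
      rfl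

end Cfsg.Agent.DerivedLength
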